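import Cfsg.Agent.H867.RC.Spor
import Mathlib.NumberTheory.ArithmeticFunction.Misc

/-!
# S3509, row B: general rules (helper853)

* `ruleA_min` : in a minimal cover, `Q` a `p`-group normalised by the members, `Ω₁(Z(Q)) = ⟨x i₀⟩`: all members centralise `Q`;
* `exists_base` : a group of order with at most `l` prime factors has a base of at most `l` points;
* `base_two` : no cover `{x, y}` if `l · |Fix y| < |orbit|` for all orbits.
-/

set_option autoImplicit false

namespace Cfsg.Agent.H853.RB

open MulAction Subgroup Cfsg.Agent.H106.RC Cfsg.Agent.H867.RC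

universe u

section RuleA

variable {G Ω ι : Type*} [Group G] [MulAction G Ω] {N : Subgroup G}

/-- **rule A for minimal covers** -/
theorem ruleA_min [Finite ι] {x : ι → G} {r : ι → ℕ} (hx : PF x r) (hc : Cov Ω x) (hm : CovMin Ω x) {p : ℕ}
    (hp : p.Prime) (Q : Subgroup G) [Finite Q] (hQ : IsPGroup p Q) (hn : ∀ i, x i ∈ normalizer (Q : Set G)) {i₀ : ι}
    (h0 : r i₀ = p) (hzQ : ∀ u ∈ Q, u * x i₀ = x i₀ * u)
    (hz : ∀ c ∈ Q, (∀ u ∈ Q, u * c = c * u) → c ^ p = 1 → c ≠ 1 → x i₀ ∈ zpowers c) :
    ∀ i, ∀ u ∈ Q, u * x i = x i * u := by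
  -- every point is fixed by a member centralising `Q`
  have key : ∀ ω : Ω, ∃ i, (∀ u ∈ Q, u * x i = x i * u) ∧ x i • ω = ω := by
    intro ω
    by_cases hω : x i₀ • ω = ω
    · exact ⟨i₀, hzQ, hω⟩
    have horb : ∀ w' ∈ orbit Q ω, x i₀ • w' ≠ w' := by
      rintro _ ⟨⟨u, hu⟩, rfl⟩ h
      apply hω
      change x i₀ • u • ω = u • ω at h
      rw [smul_smul, ← hzQ u hu, mul_smul] at h
      exact smul_left_cancel u h
    let κ := {i : ι // r i ≠ p}
    obtain ⟨i, hi⟩ := Cfsg.Agent.H393.RC.exists_trivial (ι := κ) (fun i => x i.1) (fun i => r i.1)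
      (fun i => hx.prime i.1) (fun a b hab => Subtype.ext (hx.inj hab)) (fun i => hx.pow i.1) hp Q hQ (fun i => hn i.1)
      (fun i hi => absurd hi i.2) ω (fun w' hw' => by
        obtain ⟨i, hi⟩ := hc w'
        by_cases hr : r i = p
        · have h1 : i = i₀ := hx.inj (by rw [hr, h0])
          exact absurd (h1 ▸ hi) (horb w' hw')
        · exact ⟨⟨i, hr⟩, hi⟩)
    refine ⟨i.1, ?_, hi ω (mem_orbit_self ω)⟩
    by_contra hcon
    push Not at hcon
    apply hω
    have h3 : Cm Q (x i.1) ≤ stabilizer G ω := by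
      rw [Cm, closure_le]
      rintro _ ⟨u, hu, rfl⟩
      have h0 : x i.1 • ω = ω := hi ω (mem_orbit_self ω)
      have h4 := hi ((u⁻¹ : G) • ω) ⟨⟨u⁻¹, inv_mem hu⟩, rfl⟩
      have h5 : u * x i.1 * u⁻¹ ∈ stabilizer G ω := by
        rw [mem_stabilizer_iff, mul_smul, mul_smul, h4, smul_inv_smul]
      exact mul_mem h5 (inv_mem (show x i.1 ∈ stabilizer G ω from h0))
    exact h3 (mem_cm hp hQ hz (hn i.1) hcon)
  intro i
  obtain ⟨ω, h1, h2⟩ := hm i
  obtain ⟨j, hj, hjω⟩ := key ω
  have h3 : j = i := by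
    by_contra h
    exact h2 j h hjω
  exact h3 ▸ hj

end RuleA

section Base

variable {G O : Type*} [Group G] [MulAction G O]

theorem card_smul_fib [Finite G] [IsPretransitive G O] (P : O → Prop) (b : O) :
    Nat.card {g : G // P (g • b)} = Nat.card {w : O // P w} * Nat.card (stabilizer G b) := by
  choose f hf using fun w : O => exists_smul_eq G b w
  have e : {g : G // P (g • b)} ≃ {w : O // P w} × stabilizer G b :=
    { toFun := fun g => ⟨⟨g.1 • b, g.2⟩, ⟨(f (g.1 • b))⁻¹ * g.1, by
        rw [mem_stabilizer_iff, mul_smul, inv_smul_eq_iff]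
        exact (hf _).symm⟩⟩
      invFun := fun q => ⟨f q.1.1 * q.2.1, by
        rw [mul_smul, mem_stabilizer_iff.1 q.2.2, hf]
        exact q.1.2⟩
      left_inv := fun g => by
        apply Subtype.ext
        simp
      right_inv := fun q => by
        have h2 : (f q.1.1 * q.2.1) • b = q.1.1 := by
          rw [mul_smul, mem_stabilizer_iff.1 q.2.2, hf]
        refine Prod.ext (Subtype.ext h2) (Subtype.ext ?_)
        show (f ((f q.1.1 * q.2.1) • b))⁻¹ * (f q.1.1 * q.2.1) = q.2.1
        rw [h2, inv_mul_cancel_left] }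
  rw [Nat.card_congr e, Nat.card_prod]

theorem card_move [Finite G] [IsPretransitive G O] (y : G) (b : O) :
    Nat.card {g : G // y • (g • b) = g • b} * Nat.card O = Nat.card (fixedBy O y) * Nat.card G := by
  have h1 := card_smul_fib (G := G) (fun w => y • w = w) b
  have h2 : Nat.card G = Nat.card O * Nat.card (stabilizer G b) := by
    have h3 := card_smul_fib (G := G) (fun _ : O => True) b
    rw [Nat.card_congr (Equiv.subtypeUnivEquiv fun _ => trivial),
      Nat.card_congr (Equiv.subtypeUnivEquiv fun _ => trivial)] at h3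
    exact h3
  have h4 : Nat.card (fixedBy O y) = Nat.card {w : O // y • w = w} := rfl
  rw [h1, h2, h4]
  ring

/-- a small base -/
theorem exists_base_aux [Finite G] : ∀ (n : ℕ) (H : Subgroup G), ArithmeticFunction.cardFactors (Nat.card H) ≤ n →
    ∃ s : List O, s.length ≤ n ∧ ∀ g ∈ H, (∀ b ∈ s, g • b = b) → ∀ w : O, g • w = w := by
  intro n
  induction n with
  | zero =>
    intro H hH
    refine ⟨[], le_rfl, fun g hg _ w => ?_⟩
    have h1 : Nat.card H = 1 := by
      have h2 : ArithmeticFunction.cardFactors (Nat.card H) = 0 := Nat.le_zero.1 hH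
      rcases ArithmeticFunction.cardFactors_eq_zero_iff_eq_zero_or_one.1 h2 with h | h
      · exact absurd h Nat.card_pos.ne'
      · exact h
    have h3 : H = ⊥ := Subgroup.card_eq_one.1 h1
    rw [h3, mem_bot] at hg
    rw [hg, one_smul]
  | succ n ih =>
    intro H hH
    by_cases hall : ∀ g ∈ H, ∀ w : O, g • w = w
    · exact ⟨[], Nat.zero_le _, fun g hg _ w => hall g hg w⟩
    push Not at hall
    obtain ⟨g₀, hg₀, b, hb⟩ := hall
    have hlt : H ⊓ stabilizer G b < H := lt_of_le_of_ne inf_le_left fun h => hb (by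
      have h1 : g₀ ∈ H ⊓ stabilizer G b := h.symm ▸ hg₀
      exact h1.2)
    have hK : ArithmeticFunction.cardFactors (Nat.card ↥(H ⊓ stabilizer G b)) ≤ n := by
      obtain ⟨k, hk⟩ := Subgroup.card_dvd_of_le hlt.le
      have hk0 : k ≠ 0 := by
        rintro rfl
        rw [mul_zero] at hk
        exact Nat.card_pos.ne' hk
      have hk1 : k ≠ 1 := by
        rintro rfl
        rw [mul_one] at hk
        exact hlt.ne (Subgroup.eq_of_le_of_card_ge hlt.le hk.le)
      have h1 : ArithmeticFunction.cardFactors k ≠ 0 := by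
        intro h2
        rcases ArithmeticFunction.cardFactors_eq_zero_iff_eq_zero_or_one.1 h2 with h | h
        · exact hk0 h
        · exact hk1 h
      have h2 := ArithmeticFunction.cardFactors_mul (m := Nat.card ↥(H ⊓ stabilizer G b)) (n := k) Nat.card_pos.ne' hk0
      rw [← hk] at h2
      omega
    obtain ⟨s, hs1, hs2⟩ := ih _ hK
    refine ⟨b :: s, by simpa using hs1, fun g hg hgs w => ?_⟩
    exact hs2 g ⟨hg, hgs b (by simp)⟩ (fun b' hb' => hgs b' (by simp [hb'])) w

/-- **a small base** -/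
theorem exists_base [Finite G] {n : ℕ} (h : ArithmeticFunction.cardFactors (Nat.card G) ≤ n) :
    ∃ s : List O, s.length ≤ n ∧ ∀ g : G, (∀ b ∈ s, g • b = b) → ∀ w : O, g • w = w := by
  obtain ⟨s, hs1, hs2⟩ := exists_base_aux (O := O) n (⊤ : Subgroup G) (by rwa [Subgroup.card_top])
  exact ⟨s, hs1, fun g => hs2 g (mem_top g)⟩

/-- a translate of a short list avoiding the fixed points of `y` -/
theorem exists_translate [Finite G] [Finite O] [IsPretransitive G O] (s : List O) (y : G)
    (h : s.length * Nat.card (fixedBy O y) < Nat.card O) : ∃ g : G, ∀ b ∈ s, y • (g • b) ≠ g • b := by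
  classical
  by_contra hcon
  push Not at hcon
  have h1 : ∀ t : List O, Nat.card {g : G // ∃ b ∈ t, y • (g • b) = g • b} * Nat.card O ≤
      t.length * (Nat.card (fixedBy O y) * Nat.card G) := by
    intro t
    induction t with
    | nil =>
      have : IsEmpty {g : G // ∃ b ∈ ([] : List O), y • (g • b) = g • b} := ⟨fun g => by
        obtain ⟨b, hb, -⟩ := g.2
        simp at hb⟩
      rw [Nat.card_of_isEmpty]
      simp
    | cons b t ih =>
      have h2 : Nat.card {g : G // ∃ b' ∈ b :: t, y • (g • b') = g • b'} ≤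
          Nat.card {g : G // y • (g • b) = g • b} + Nat.card {g : G // ∃ b ∈ t, y • (g • b) = g • b} := by
        rw [← Nat.card_sum]
        refine Nat.card_le_card_of_injective (fun g => if hg : y • (g.1 • b) = g.1 • b then Sum.inl ⟨g.1, hg⟩
          else Sum.inr ⟨g.1, by
            obtain ⟨b', hb', h3⟩ := g.2
            rcases List.mem_cons.1 hb' with rfl | h4
            · exact absurd h3 hg
            · exact ⟨b', h4, h3⟩⟩) ?_
        intro g g' hgg
        dsimp only at hgg
        split_ifs at hgg with h3 h4 h4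
        · have h5 := Sum.inl_injective hgg
          exact Subtype.ext (congrArg (fun v : {g : G // y • (g • b) = g • b} => v.1) h5)
        · have h5 := Sum.inr_injective hgg
          exact Subtype.ext (congrArg (fun v : {g : G // ∃ b ∈ t, y • (g • b) = g • b} => v.1) h5)
      calc _ ≤ (Nat.card {g : G // y • (g • b) = g • b} + Nat.card {g : G // ∃ b ∈ t, y • (g • b) = g • b}) *
            Nat.card O := Nat.mul_le_mul_right _ h2
        _ ≤ Nat.card (fixedBy O y) * Nat.card G + t.length * (Nat.card (fixedBy O y) * Nat.card G) := by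
          rw [add_mul, card_move]
          exact Nat.add_le_add_left ih _
        _ = _ := by rw [List.length_cons]; ring
  have h2 := h1 s
  have h3 : Nat.card {g : G // ∃ b ∈ s, y • (g • b) = g • b} = Nat.card G :=
    Nat.card_congr (Equiv.subtypeUnivEquiv hcon)
  rw [h3] at h2
  have h4 : 0 < Nat.card G := Nat.card_pos
  have h5 : s.length * (Nat.card (fixedBy O y) * Nat.card G) = (s.length * Nat.card (fixedBy O y)) * Nat.card G := by
    ring
  rw [h5, mul_comm] at h2
  exact absurd (Nat.le_of_mul_le_mul_right h2 h4) (not_le.2 h)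

/-- **the base rule** -/
theorem base_two {Ω : Type u} [MulAction G Ω] [Nonempty Ω] [Finite G] (hE : Env G Ω (⊤ : Subgroup G))
    {n : ℕ} (hn : ArithmeticFunction.cardFactors (Nat.card G) ≤ n) {x y : G} (hx : x ≠ 1)
    (hc : ∀ ω : Ω, x • ω = ω ∨ y • ω = ω)
    (hy : ∀ (O : Type u) [MulAction G O] [Finite O] [IsPretransitive G O], 1 < Nat.card O →
      n * Nat.card (fixedBy O y) < Nat.card O) : False := by
  obtain ⟨ω₀⟩ := (inferInstance : Nonempty Ω)
  let O : Type u := orbit G ω₀
  have hO : Finite O := Set.finite_range _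
  have hOne : Nonempty O := ⟨⟨ω₀, mem_orbit_self ω₀⟩⟩
  have hnof : ∀ w : O, ¬ (⊤ : Subgroup G) ≤ stabilizer G w := fun w hw => hE.nofix w.1 fun g hg =>
    congrArg Subtype.val (hw hg : g • w = w)
  have hE' : Env G O (⊤ : Subgroup G) := ⟨hE.norm, hE.simple, hE.ncomm, hE.cent, hnof⟩
  have hcO : 1 < Nat.card O := by
    by_contra hcon
    have h1 : Nat.card O = 1 := by
      have : 0 < Nat.card O := Nat.card_pos
      omega
    have h2 : Subsingleton O := (Nat.card_eq_one_iff_unique.1 h1).1
    exact hnof ⟨ω₀, mem_orbit_self ω₀⟩ fun g _ => Subsingleton.elim _ _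
  obtain ⟨s, hs1, hs2⟩ := exists_base (G := G) (O := O) hn
  obtain ⟨g, hg⟩ := exists_translate s y (lt_of_le_of_lt (Nat.mul_le_mul_right _ hs1) (hy O hcO))
  have h1 : ∀ b ∈ s, (g⁻¹ * x * g) • b = b := by
    intro b hb
    have h2 : x • (g • b) = g • b := by
      apply Subtype.ext
      exact (hc (g • b).1).resolve_right fun h3 => hg b hb (Subtype.ext h3)
    rw [mul_smul, mul_smul, h2, inv_smul_smul]
  have h2 := hs2 _ h1
  apply hx
  refine hE'.single fun w => ?_
  have h3 := h2 (g⁻¹ • w)
  rw [mul_smul, mul_smul, smul_inv_smul] at h3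
  exact smul_left_cancel _ h3

end Base

end Cfsg.Agent.H853.RB
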