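import Cfsg.Agent.H844.Ore.BThree

/-!
# S3509, row B: the involutions of the Baby Monster (helper853)

* `exists_frame` : the cover `q : C_M(t) → B`; for every involution `u` there is a transposition `d` commuting with `u`
and with all the elements of odd order commuting with `u`, or `w ∈ C_M(t)`, conjugate to `z` in the Monster, commuting
with the lifts of the elements of odd order commuting with `u`.
-/

set_option autoImplicit false
set_option maxRecDepth 100000
set_option linter.unusedSectionVars false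

namespace Cfsg.Agent.H853.RB

open Subgroup Cfsg Cfsg.Agent Cfsg.Agent.R01.Lifts Cfsg.Agent.MonsterN Cfsg.Agent.MonsterN.Lit
open Cfsg.Agent.BabyComp Cfsg.Agent.BabyComp.Main Cfsg.Agent.BabyComp.BaseTwo
open Cfsg.Agent.H713.Spor Cfsg.Agent.H844.Ore.BInv Cfsg.Agent.H979.BAdj

section

variable {B X E : Type*} [Group B] [Group X] [Group E] [Finite B] [Finite X] {q : B →* X} {τ : B} {R : Set E}
variable {y : ℕ → B} {h : Pre y} {π : KK y →* E} {f₁ f₂ f₃ f₄ : B}

/-- **The main statement.** -/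
theorem cases_inv' {F : Type*} [Field F] [Fintype F] {hF : Fintype.card F = 2 ^ 2}
    (hR : Cfsg.Agent.BabyU.RootCfg.RootFacts hF R) (hX : Cfsg.Agent.BabyU.Key.Extra hF R)
    (Rt : Cfsg.Agent.BabyU.Lab.Roots E R)
    (hq : Ext q τ) (h10 : y 10 = τ) (D : KD h R π) (Fc : FusionType.Facts τ f₁ f₂ f₃ f₄)
    {Γ : Type*} [Group Γ] [Finite Γ] {θ : B →* Γ} {z : Γ}
    (hcz : IsConj z (θ (τ * (f₁ * f₂)))) (hcd : IsConj z (θ (f₁ * f₂ * f₃)))
    (hc5 : IsConj f₁ (y 5)) (big : KEq.Big B τ (y 5)) {M₁ : Subgroup X} (Bs : Base2 (q (y 5)) M₁)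
    {u : X} (hu : orderOf u = 2) :
    (∃ t' : X, IsConj (q (y 5)) t' ∧ u * t' = t' * u ∧
        ∀ v : X, Odd (orderOf v) → v * u = u * v → v * t' = t' * v) ∨
      ∃ w : B, IsConj z (θ w) ∧ q w = u ∧ ∀ x : B, Odd (orderOf x) → q x * u = u * q x → x * w = w * x := by
  have huu : u * u = 1 := by rw [← pow_two, ← hu, pow_orderOf_eq_one]
  have hu1 : u ≠ 1 := by
    rintro rfl
    rw [orderOf_one] at hu
    omega
  obtain ⟨b, rfl⟩ := hq.surj u
  have hbb : b * b = 1 ∨ b * b = τ := (hq.ker _).1 (by rw [map_mul, huu])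
  rcases hbb with hbb | hbb
  · rcases Fc.classes b hbb (fun e => hu1 (by rw [e, map_one])) (fun e => hu1 (by rw [e, hq.mapz])) with h1 | h1 | h1 | h1
    · exact Or.inl ⟨q b, q.map_isConj (hc5.symm.trans h1), rfl, fun v _ hv => hv⟩
    · refine Or.inr ⟨τ * b, hcz.trans (θ.map_isConj (FusionType.conj_mul_t Fc.cen h1)),
        by rw [map_mul, hq.mapz, one_mul], fun x hx hxb => ?_⟩
      have hbx := comm_of_odd hq hx hxb.symm
      calc x * (τ * b) = x * τ * b := by group
        _ = τ * (x * b) := by rw [hq.comm]; group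
        _ = τ * b * x := by rw [← hbx]; group
    · exact Or.inr ⟨b, hcz.trans (θ.map_isConj h1), rfl, fun x hx hxb => (comm_of_odd hq hx hxb.symm).symm⟩
    · exact Or.inr ⟨b, hcd.trans (θ.map_isConj h1), rfl, fun x hx hxb => (comm_of_odd hq hx hxb.symm).symm⟩
  · left
    have hM := BaseTwo.Base.eq_map hq h10 big Bs.toBase
    -- `u` has no conjugate in `M₁`
    have hno : ∀ g : X, g⁻¹ * q b * g ∉ M₁ := by
      intro g hg
      obtain ⟨c, rfl⟩ := hq.surj g
      obtain ⟨k, hk, hqk⟩ := M_le hq h10 big Bs.toBase _ hg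
      have hkk : k * k = 1 := by
        refine lift_sq hR hX Rt hq h10 D hk ?_
        rw [hqk]
        calc (q c)⁻¹ * q b * q c * ((q c)⁻¹ * q b * q c) = (q c)⁻¹ * (q b * q b) * q c := by group
          _ = 1 := by rw [huu]; group
      have h1 : q k = q (c⁻¹ * b * c) := by rw [hqk, map_mul, map_mul, map_inv]
      have h2 : k * k = τ := by
        have h3 : c⁻¹ * b * c * (c⁻¹ * b * c) = τ := by
          calc c⁻¹ * b * c * (c⁻¹ * b * c) = c⁻¹ * (b * b) * c := by group
            _ = c⁻¹ * (τ * c) := by rw [hbb, mul_assoc]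
            _ = c⁻¹ * (c * τ) := by rw [hq.comm]
            _ = τ := by group
        rcases hq.map_eq.1 h1 with h4 | h4
        · rw [h4, h3]
        · rw [h4]
          calc c⁻¹ * b * c * τ * (c⁻¹ * b * c * τ) = c⁻¹ * b * c * (τ * (c⁻¹ * b * c)) * τ := by group
            _ = c⁻¹ * b * c * (c⁻¹ * b * c * τ) * τ := by rw [hq.comm (c⁻¹ * b * c)]
            _ = (c⁻¹ * b * c * (c⁻¹ * b * c)) * (τ * τ) := by group
            _ = τ := by rw [h3, hq.zz, mul_one]
      rw [hkk] at h2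
      exact hq.zne h2.symm
    rcases Bs.classes (q b) huu hu1 with ⟨g, hg⟩ | ⟨d, hd', hc, hud⟩
    · exact absurd hg (hno g)
    · obtain ⟨g, hg⟩ := isConj_iff.1 hd'
      obtain ⟨c, rfl⟩ := hq.surj g
      set t := q (y 5) with ht
      have htt : t * t = 1 := by rw [ht, ← map_mul, h.sq 5 (by norm_num) (by norm_num), map_one]
      have htM : t ∈ M₁ := by rw [hM]; exact ⟨y 5, h.five_mem, rfl⟩
      set u' : X := (q c)⁻¹ * q b * q c with hu'
      have hdt : (q c)⁻¹ * d * q c = t := by rw [← hg]; group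
      have hu't : u' * t = t * u' := by
        calc u' * t = (q c)⁻¹ * (q b * d) * q c := by rw [← hdt, hu']; group
          _ = (q c)⁻¹ * (d * q b) * q c := by rw [hc]
          _ = t * u' := by rw [← hdt, hu']; group
      -- the transposition `d' = t u'`
      have hd'T : IsConj t (t * u') := by
        refine hud.trans (isConj_iff.2 ⟨(q c)⁻¹, ?_⟩)
        rw [← hu't, inv_inv, ← hdt, hu']
        group
      have htd' : t * (t * u') = u' := by rw [← mul_assoc, htt, one_mul]
      have hd'M : t * u' ∉ M₁ := by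
        intro h1
        have h2 := M₁.mul_mem htM h1
        rw [htd'] at h2
        exact hno (q c) h2
      refine ⟨d, hd', hc, fun v hv hvu => ?_⟩
      have hx' : orderOf ((q c)⁻¹ * v * q c) = orderOf v := by
        have h3 : (q c)⁻¹ * v * q c = MulAut.conj (q c)⁻¹ v := by rw [MulAut.conj_apply, inv_inv]
        rw [h3, MulEquiv.orderOf_eq]
      have h1 := Bs.comm_of_odd (t * u') ((q c)⁻¹ * v * q c) hd'T (by rw [mul_assoc, hu't]) hd'M
        (by rw [hx']; exact hv) (by
          rw [htd', hu']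
          calc (q c)⁻¹ * v * q c * ((q c)⁻¹ * q b * q c) = (q c)⁻¹ * (v * q b) * q c := by group
            _ = (q c)⁻¹ * (q b * v) * q c := by rw [hvu]
            _ = _ := by group)
      rw [← hg]
      calc v * (q c * t * (q c)⁻¹) = q c * ((q c)⁻¹ * v * q c * t) * (q c)⁻¹ := by group
        _ = q c * (t * ((q c)⁻¹ * v * q c)) * (q c)⁻¹ := by rw [h1]
        _ = _ := by group

end

/-- the double cover of the Baby Monster in the Monster -/
structure Frame (t : ↥MonsterX.InstData.M.G) (q : ↥(centralizer ({t} : Set ↥MonsterX.InstData.M.G)) →* Spor.BabyMonster) : Prop where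
  ta : LThreeB.Row.TA t
  surj : Function.Surjective q
  ker : ∀ a, q a = 1 ↔ (a : ↥MonsterX.InstData.M.G) = 1 ∨ (a : ↥MonsterX.InstData.M.G) = t

/-- a class 2A involution -/
def TwoA (d : Spor.BabyMonster) : Prop := IsConj d (PresentedGroup.of Spor.BabyMonster.Gen.t1 : Spor.BabyMonster)

/-- **The frame.** -/
theorem exists_frame : ∃ (t : ↥MonsterX.InstData.M.G) (q : ↥(centralizer ({t} : Set ↥MonsterX.InstData.M.G)) →* Spor.BabyMonster), Frame t q ∧
    ∀ u : Spor.BabyMonster, orderOf u = 2 →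
      (∃ d, TwoA d ∧ u * d = d * u ∧ ∀ v, Odd (orderOf v) → v * u = u * v → v * d = d * v) ∨
      ∃ w : ↥(centralizer ({t} : Set ↥MonsterX.InstData.M.G)), IsConj MonsterX.KDone.K.z (w : ↥MonsterX.InstData.M.G) ∧ q w = u ∧
        ∀ a : ↥(centralizer ({t} : Set ↥MonsterX.InstData.M.G)), Odd (orderOf a) → q a * u = u * q a → a * w = w * a := by
  refine CTwoTab.BInst.elim ?_
  intro K iF iT hK hF i1 i2 i3 i4 q y h π f₁ f₂ f₃ f₄ M₁ hq h10 DK Fc hz hcz hcd hL hc5 big hq5 hcard Bs hr
  obtain ⟨M₂, Bs2⟩ := BaseTwo.exists_base2 hq5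
  have hfB := CTwoTab.BInst.finite_B
  refine ⟨MonsterX.KDone.K.ι MonsterX.KLinkInst.x₀, q, ⟨?_, hq.surj, fun a => ?_⟩, fun u hu => ?_⟩
  · exact LThreeB.Par.ta_iota _ MonsterX.KDone.lnk MonsterX.KDone.lft
  · rw [hq.ker]
    exact or_congr Subtype.ext_iff Subtype.ext_iff
  · rcases cases_inv' (hF := hF) (Cfsg.Agent.TwoESix.LeviG.rootFacts hK hF) (Cfsg.Agent.BabyU.KeyInst.extra hF)
      (Cfsg.Agent.TwoESix.RootsInst.roots K hF) hq h10 DK Fc hcz hcd hc5 big Bs2 hu with ⟨d, h1, h2, h3⟩ | ⟨w, hw, h0, h1⟩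
    · exact Or.inl ⟨d, h1.symm.trans hq5, h2, h3⟩
    · exact Or.inr ⟨w, hw, h0, h1⟩

end Cfsg.Agent.H853.RB
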